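import Cfsg.Agent.JankoFourM24.Model
import Cfsg.Agent.JankoFourIndex.Assembly
import Cfsg.Agent.JankoFour.Simple

/-!
The presented fourth Janko group: its order, the index of `2¹¹:M₂₄`, and its faithful representation.
-/

set_option autoImplicit false

namespace CfsgLib.JankoFour

open Cfsg.Spor

theorem card_eq : Nat.card Cfsg.Spor.J4 = 86775571046077562880 :=
  JankoFourIndex.card_J4 JankoFourM24.model JankoFourM24.iso_M

theorem finite_group : Finite Cfsg.Spor.J4 := JankoFourIndex.finite_J4 JankoFourM24.model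

theorem rep_inj : Function.Injective CfsgLib.JankoFourRep.rep :=
  JankoFourIndex.rep_injective JankoFourM24.model JankoFourM24.iso_M

theorem range_dvd : 86775571046077562880 ∣ Nat.card CfsgLib.JankoFourRep.rep.range :=
  card_range_rep_dvd_of JankoFourM24.iso_M

theorem isJ4 : Cfsg.IsJ4 Cfsg.Spor.J4 := isJ4_of_card JankoFourM24.iso_M card_eq range_dvd

/-- The subgroup of the frozen index statement. -/
theorem map_closure_eq_hSub :
    (Subgroup.closure ({J4.x, J4.y, (J4.y * ((J4.y * J4.x) ^ 4 * J4.y⁻¹ * J4.x)⁻¹ * J4.t *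
      ((J4.y * J4.x) ^ 4 * J4.y⁻¹ * J4.x)) ^ 3} : Set (FreeGroup J4.Gen))).map projJ =
      JankoFourIndex.hSub := by
  rw [MonoidHom.map_closure]
  simp [JankoFourIndex.hSub, Set.image_insert_eq, xJ, yJ, tJ, JankoFourIndex.sJ, JankoFourIndex.wJ]

theorem index_eq : JankoFourIndex.hSub.index = 173067389 :=
  JankoFourIndex.index_hSub JankoFourM24.model JankoFourM24.iso_M

end CfsgLib.JankoFour
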