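import Cfsg.Agent.JankoFourM24.LBData

/-! A logged coset enumeration for the presentation of `M₂₄`: checks. -/

set_option autoImplicit false
set_option maxRecDepth 100000
set_option Elab.async false

namespace CfsgLib.JankoFourM24.LB

open CfsgLib.CosetEnum CfsgLib.LyG2 CfsgLib.HNXYZ

noncomputable section

theorem edgesOK : allR (log.edgesOK closed) 12 0 = true := by decide +kernel

theorem chunk0 : log.chunk 10 0 = true := by decide +kernel

theorem chunk1 : log.chunk 10 1024 = true := by decide +kernel

theorem chunk2 : log.chunk 10 2048 = true := by decide +kernel

theorem chunk3 : log.chunk 10 3072 = true := by decide +kernel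

theorem chunk4 : log.chunk 10 4096 = true := by decide +kernel

theorem chunk5 : log.chunk 10 5120 = true := by decide +kernel

theorem chunk6 : log.chunk 10 6144 = true := by decide +kernel

theorem chunk7 : log.chunk 10 7168 = true := by decide +kernel

theorem factsOK : ∀ i < log.nF, log.factOK i = true := by
  intro i hi
  have hi : i < 8070 := hi
  by_cases h0 : i < 1024
  · exact chunk_spec _ chunk0 i (by omega) (by omega)
  by_cases h1 : i < 2048
  · exact chunk_spec _ chunk1 i (by omega) (by omega)
  by_cases h2 : i < 3072
  · exact chunk_spec _ chunk2 i (by omega) (by omega)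
  by_cases h3 : i < 4096
  · exact chunk_spec _ chunk3 i (by omega) (by omega)
  by_cases h4 : i < 5120
  · exact chunk_spec _ chunk4 i (by omega) (by omega)
  by_cases h5 : i < 6144
  · exact chunk_spec _ chunk5 i (by omega) (by omega)
  by_cases h6 : i < 7168
  · exact chunk_spec _ chunk6 i (by omega) (by omega)
  exact chunk_spec _ chunk7 i (by omega) (by omega)

theorem letters_ok : log.words.all (fun w => w.all fun x => Nat.blt x 14) = true := by
  decide +kernel

end

end CfsgLib.JankoFourM24.LB
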