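import Cfsg.Agent.JankoFourM24.LMData

/-! A logged coset enumeration for the presentation of `M₂₄`: checks. -/

set_option autoImplicit false
set_option maxRecDepth 100000
set_option Elab.async false

namespace CfsgLib.JankoFourM24.LM

open CfsgLib.CosetEnum CfsgLib.LyG2 CfsgLib.HNXYZ

noncomputable section

theorem edgesOK : allR (log.edgesOK closed) 8 0 = true := by decide +kernel

theorem chunk0 : log.chunk 10 0 = true := by decide +kernel

theorem factsOK : ∀ i < log.nF, log.factOK i = true := by
  intro i hi
  have hi : i < 632 := hi
  exact chunk_spec _ chunk0 i (by omega) (by omega)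

theorem letters_ok : log.words.all (fun w => w.all fun x => Nat.blt x 14) = true := by
  decide +kernel

end

end CfsgLib.JankoFourM24.LM
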