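import Cfsg.Agent.JankoFourM24.LRData

/-! A logged coset enumeration for the presentation of `M₂₄`: checks. -/

set_option autoImplicit false
set_option maxRecDepth 100000
set_option Elab.async false

namespace CfsgLib.JankoFourM24.LR

open CfsgLib.CosetEnum CfsgLib.LyG2 CfsgLib.HNXYZ

noncomputable section

theorem loop0_ok : log.loopOK [3, 1, 3, 1, 2, 1, 2, 1, 3, 1, 3, 1, 2, 1, 2, 1, 3, 1, 3, 1, 2, 1, 2, 1, 3, 1, 3, 1, 2, 1, 2, 1, 3, 1, 3, 1, 2, 1, 2, 1] loop0 = true := by decide +kernel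

theorem loop1_ok : log.loopOK [3, 1, 3, 1, 2, 1, 2, 1, 3, 1, 3, 1, 2, 1, 2, 1, 3, 1, 3, 1, 2, 1, 2, 1, 3, 0, 3, 0, 3, 0, 2, 0, 3, 1, 3, 1, 2, 1, 2, 1, 3, 1, 3, 1, 2, 1, 2, 1, 3, 1, 3, 1, 2, 1, 2, 1, 3, 0, 3, 0, 3, 0, 2, 0, 3, 1, 3, 1, 2, 1, 2, 1, 3, 1, 3, 1, 2, 1, 2, 1, 3, 1, 3, 1, 2, 1, 2, 1, 3, 0, 3, 0, 3, 0, 2, 0] loop1 = true := by decide +kernel

theorem loop2_ok : log.loopOK [3, 1, 3, 1, 2, 1, 2, 1, 3, 1, 3, 1, 2, 1, 2, 1, 3, 1, 3, 1, 2, 1, 2, 1, 2, 1, 3, 1, 2, 1, 2, 1, 3, 1, 3, 1, 2, 1, 2, 1, 3, 1, 3, 1, 2, 1, 2, 1, 3, 1, 3, 1, 2, 1, 2, 1, 2, 1, 3, 1, 2, 1, 2, 1, 3, 1, 3, 1, 2, 1, 2, 1, 3, 1, 3, 1, 2, 1, 2, 1, 3, 1, 3, 1, 2, 1, 2, 1, 2, 1, 3, 1, 2, 1, 2, 1] loop2 = true := by decide +kernel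

theorem loop3_ok : log.loopOK [3, 1, 3, 1, 2, 1, 2, 1, 3, 0, 2, 0, 2, 0, 3, 0, 3, 0, 1, 3, 1, 2, 1, 2, 1, 0, 2, 0, 2, 0, 3, 0, 3, 0, 2, 0, 3, 0, 3, 0, 2, 0] loop3 = true := by decide +kernel

theorem loop4_ok : log.loopOK [3, 1, 3, 1, 2, 1, 2, 1, 2, 0, 3, 0, 3, 0, 2, 0, 3, 0, 3, 0, 3, 0, 2, 0, 0, 3, 0, 3, 0, 2, 0, 3, 0, 3, 0, 3, 0, 2, 0, 3, 1, 3, 1, 2, 1, 2, 1, 2, 0, 3, 0, 3, 0, 2, 0, 3, 0, 3, 0, 3, 0, 2, 0, 0, 3, 0, 3, 0, 2, 0, 3, 0, 3, 0, 3, 0, 2, 0] loop4 = true := by decide +kernel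

theorem loop5_ok : log.loopOK [3, 0, 3, 0, 3, 0, 2, 0, 2, 0, 3, 0, 3, 0, 2, 0, 2, 0, 3, 0, 3, 0, 2, 0, 2, 0, 3, 0, 3, 0, 2, 0, 3, 0, 3, 0, 3, 0, 2, 0, 2, 0, 3, 0, 3, 0, 2, 0, 2, 0, 3, 0, 3, 0, 2, 0, 2, 0, 3, 0, 3, 0, 2, 0, 3, 0, 3, 0, 3, 0, 2, 0, 2, 0, 3, 0, 3, 0, 2, 0, 2, 0, 3, 0, 3, 0, 2, 0, 2, 0, 3, 0, 3, 0, 2, 0] loop5 = true := by decide +kernel

theorem loop6_ok : log.loopOK [1, 3, 1, 2, 1, 2, 1, 1, 3, 1, 2, 1, 2, 1, 2, 1, 3, 1, 2, 1, 2, 1, 1, 3, 1, 2, 1, 2, 1, 2, 1, 3, 1, 2, 1, 2, 1, 1, 3, 1, 2, 1, 2, 1, 2, 1, 3, 1, 2, 1, 2, 1, 1, 3, 1, 2, 1, 2, 1, 2, 1, 3, 1, 2, 1, 2, 1, 1, 3, 1, 2, 1, 2, 1, 2] loop6 = true := by decide +kernel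

theorem loop7_ok : log.loopOK [1, 3, 1, 2, 1, 2, 1, 1, 3, 1, 2, 1, 2, 1, 2, 0, 3, 0, 3, 0, 2, 0, 2, 1, 3, 1, 2, 1, 2, 1, 1, 3, 1, 2, 1, 2, 1, 2, 0, 3, 0, 3, 0, 2, 0, 2, 1, 3, 1, 2, 1, 2, 1, 1, 3, 1, 2, 1, 2, 1, 2, 0, 3, 0, 3, 0, 2, 0, 2, 1, 3, 1, 2, 1, 2, 1, 1, 3, 1, 2, 1, 2, 1, 2, 0, 3, 0, 3, 0, 2, 0, 2, 1, 3, 1, 2, 1, 2, 1, 1, 3, 1, 2, 1, 2, 1, 2, 0, 3, 0, 3, 0, 2, 0, 2] loop7 = true := by decide +kernel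

theorem loop8_ok : log.loopOK [1, 3, 1, 2, 1, 2, 1, 2, 0, 3, 0, 3, 0, 2, 0, 2, 1, 3, 1, 2, 1, 2, 1, 2, 0, 3, 0, 3, 0, 2, 0, 0, 3, 0, 3, 0, 2, 0, 0, 3, 0, 3, 0, 2, 0, 2, 0, 3, 0, 3, 0, 2, 0, 2, 1, 3, 1, 2, 1, 2, 1, 2, 0, 3, 0, 3, 0, 2, 0, 2, 1, 3, 1, 2, 1, 2, 1, 2, 0, 3, 0, 3, 0, 2, 0, 0, 3, 0, 3, 0, 2, 0, 0, 3, 0, 3, 0, 2, 0, 2, 0, 3, 0, 3, 0, 2, 0, 2] loop8 = true := by decide +kernel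

theorem loop9_ok : log.loopOK [1, 3, 1, 2, 1, 2, 1, 0, 2, 0, 2, 0, 3, 0, 3, 0, 2, 1, 3, 1, 2, 1, 2, 1, 0, 2, 0, 2, 0, 3, 0, 3, 0, 2, 1, 3, 1, 2, 1, 2, 1, 0, 2, 0, 2, 0, 3, 0, 3, 0, 2, 1, 3, 1, 2, 1, 2, 1, 0, 2, 0, 2, 0, 3, 0, 3, 0, 2] loop9 = true := by decide +kernel

theorem loop10_ok : log.loopOK [2, 2, 2] loop10 = true := by decide +kernel

theorem loop11_ok : log.loopOK [2, 0, 3, 0, 3, 0, 2, 0, 2, 0, 3, 0, 3, 0, 2, 0, 2, 0, 3, 0, 3, 0, 2, 0, 2, 0, 3, 0, 3, 0, 2, 0, 2, 0, 3, 0, 3, 0, 2, 0] loop11 = true := by decide +kernel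

theorem loop12_ok : log.loopOK [0, 3, 0, 3, 0, 2, 0, 0, 3, 0, 3, 0, 2, 0, 0, 3, 0, 3, 0, 2, 0] loop12 = true := by decide +kernel

theorem loop13_ok : log.loopOK [0, 2, 0, 2, 0, 3, 0, 3, 0, 0, 2, 0, 2, 0, 3, 0, 3, 0] loop13 = true := by decide +kernel

theorem chunk0 : log.chunk 10 0 = true := by decide +kernel

theorem factsOK : ∀ i < log.nF, log.factOK i = true := by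
  intro i hi
  have hi : i < 562 := hi
  exact chunk_spec _ chunk0 i (by omega) (by omega)

theorem letters_ok : log.words.all (fun w => w.all fun x => Nat.blt x 14) = true := by
  decide +kernel

end

end CfsgLib.JankoFourM24.LR
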