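import Mathlib.Init

/-! Relators of two subgroups in the letters `a, a⁻¹, v, v⁻¹, e, e⁻¹`. -/

set_option autoImplicit false

namespace CfsgLib.JankoFourM24

/-- Relators of `⟨a, v⟩`. -/
def relsB : List (List Nat) := [
  [0, 0, 0],
  [2, 2, 2],
  [0, 2, 0, 2, 0, 2, 0, 2, 0, 2],
  [1, 3, 1, 3, 1, 3, 1, 3, 1, 3],
  [3, 3, 0, 3, 3, 0, 3, 3, 0, 3, 3, 0, 3, 3, 0],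
  [1, 3, 0, 2, 1, 2, 2, 1, 2, 1, 3, 0, 2, 1, 2, 2, 1, 2],
  [1, 2, 0, 2, 0, 2, 0, 2, 1, 2, 0, 2, 0, 2, 0, 2, 1, 2, 0, 2, 0, 2, 0, 2],
  [1, 3, 1, 3, 1, 3, 0, 3, 1, 3, 1, 3, 1, 3, 0, 3, 1, 3, 1, 3, 1, 3, 0, 3],
  [1, 3, 1, 3, 1, 3, 1, 2, 1, 3, 1, 3, 1, 3, 1, 2, 1, 3, 1, 3, 1, 3, 1, 2],
  [3, 0, 2, 0, 3, 0, 2, 2, 2, 0, 2, 0, 3, 0, 2, 0, 3, 0, 2, 2, 2, 0, 2, 0],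
  [3, 3, 0, 2, 0, 3, 3, 0, 2, 0, 3, 3, 0, 2, 0, 3, 3, 0, 2, 0, 3, 3, 0, 2, 0]]

/-- Relators of `⟨a, v, e⟩`. -/
def relsA : List (List Nat) := [
  [0, 0, 0],
  [2, 2, 2],
  [0, 2, 0, 2, 0, 2, 0, 2, 0, 2],
  [3, 3, 0, 3, 3, 0, 3, 3, 0, 3, 3, 0, 3, 3, 0],
  [1, 3, 0, 2, 1, 2, 2, 1, 2, 1, 3, 0, 2, 1, 2, 2, 1, 2],
  [1, 2, 0, 2, 0, 2, 0, 2, 1, 2, 0, 2, 0, 2, 0, 2, 1, 2, 0, 2, 0, 2, 0, 2],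
  [1, 3, 1, 3, 1, 3, 1, 2, 1, 3, 1, 3, 1, 3, 1, 2, 1, 3, 1, 3, 1, 3, 1, 2],
  [3, 0, 2, 0, 3, 0, 2, 2, 2, 0, 2, 0, 3, 0, 2, 0, 3, 0, 2, 2, 2, 0, 2, 0],
  [4, 4],
  [1, 3, 1, 4, 3, 4, 0, 2],
  [3, 4, 0, 3, 4, 0, 3, 4, 0, 3, 4, 0]]

end CfsgLib.JankoFourM24
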