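import Cfsg.Agent.JankoFourM24.Group
import Cfsg.Agent.JankoFourM24.SubWords
import Cfsg.Agent.JankoFourM24.LR
import Cfsg.Agent.JankoFourM24.LG
import Cfsg.Agent.JankoFourM24.LM
import Cfsg.Agent.JankoFourM24.LB

/-!
The presented group has at most `3 * 244823040` elements: there are 276 cosets of `⟨a, v, e⟩`, 154 of
`⟨a, v⟩` in it, and 3456 of `⟨a v⟩` in that, the needed relations being read from a partial enumeration
over `⟨x y⟩`.
-/

set_option autoImplicit false
set_option maxRecDepth 100000

namespace CfsgLib.JankoFourM24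

open CfsgLib.CosetEnum CfsgLib.LyG2 CfsgLib.HNXYZ

noncomputable section

/-- All rotations of some words and of their inverses. -/
def rots (S : List (List ℕ)) : List (List ℕ) :=
  S.flatMap fun w => ([w, w.reverse.map iv]).flatMap fun v =>
    (List.range v.length).map fun k => v.drop k ++ v.take k

theorem rots_one {G : Type*} [Group G] {g : ℕ → G} (hg : ∀ x, g (iv x) = (g x)⁻¹)
    {S : List (List ℕ)} (hS : ∀ w ∈ S, prodw g w = 1) : ∀ w ∈ rots S, prodw g w = 1 := by
  intro w hw
  simp only [rots, List.mem_flatMap, List.mem_map, List.mem_cons, List.not_mem_nil, or_false] at hw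
  obtain ⟨r, hr, v, hv, k, -, rfl⟩ := hw
  have h1 : prodw g v = 1 := by
    rcases hv with rfl | rfl
    · exact hS _ hr
    · rw [prodw_inv hg, hS _ hr, inv_one]
  rw [prodw_append]
  refine mul_eq_one_comm.1 ?_
  rw [← prodw_append, List.take_append_drop]
  exact h1

theorem lr_rels : ∀ r, r < LR.log.nR → prodw gm (LR.log.words.getD r []) = 1 :=
  rels_one (rots relsM) (rots_one gm_iv fun _ => gm_rel) (by decide +kernel) (by decide +kernel)

/-- The product of the generators. -/
def gxy : GM := prodw gm [0, 2]

theorem lr_subs : ∀ r, r < LR.log.words.length →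
    prodw gm (LR.log.words.getD r []) ∈ Subgroup.zpowers gxy :=
  subs_mem _ lr_rels (by
    intro w hw
    rw [show LR.log.words.drop LR.log.nR = [[0, 2]] by decide +kernel] at hw
    simp only [List.mem_cons, List.not_mem_nil, or_false] at hw
    subst hw
    exact Subgroup.mem_zpowers gxy)

theorem gxy_pow : gxy ^ 23 = 1 := by
  have h := gm_rel (w := (List.replicate 23 [0, 2]).flatten) (by decide +kernel)
  have e : ∀ n : ℕ, prodw gm (List.replicate n [0, 2]).flatten = gxy ^ n := by
    intro n
    induction n with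
    | zero => rfl
    | succ n ih => rw [List.replicate_succ, List.flatten_cons, prodw_append, ih, pow_succ']; rfl
  rwa [e] at h

theorem loop_one {w refs : List ℕ} (h : LR.log.loopOK w refs = true)
    (hw : (w.all fun x => Nat.blt x 4) = true)
    (hp : ((List.range 24).all fun i => Nat.beq (walkP w i) i) = true) : prodw gm w = 1 := by
  obtain ⟨k, hk⟩ := Subgroup.mem_zpowers_iff.1
    (loop_sound gm_iv LR.log _ lr_rels lr_subs (letters_lt LR.letters_ok) LR.factsOK h)
  have h1 : piM gxy ^ k = 1 := by
    rw [← map_zpow, hk]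
    exact piM_eq_one (by simpa using hw) fun i hi =>
      Nat.eq_of_beq_eq_true (List.all_eq_true.1 hp i (List.mem_range.2 hi))
  have hne : piM gxy ≠ 1 := fun e => by
    have hv := piM_prodw (w := [0, 2]) (by decide) 0
    rw [show prodw gm [0, 2] = gxy from rfl, e, inv_one] at hv
    exact absurd hv (by decide +kernel)
  have hord : orderOf (piM gxy) = 23 := by
    haveI := Fact.mk (by norm_num : Nat.Prime 23)
    exact orderOf_eq_prime (by rw [← map_pow, gxy_pow, map_one]) hne
  obtain ⟨m, rfl⟩ : (23 : ℤ) ∣ k := by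
    have := orderOf_dvd_iff_zpow_eq_one.2 h1
    rwa [hord] at this
  rw [← hk, zpow_mul, show gxy ^ (23 : ℤ) = 1 by exact_mod_cast gxy_pow, one_zpow]

theorem closed_one {w : List ℕ} (hw : w ∈ closedW) : prodw gm w = 1 := by
  simp only [closedW, List.mem_cons, List.not_mem_nil, or_false] at hw
  rcases hw with rfl | rfl | rfl | rfl | rfl | rfl | rfl | rfl | rfl | rfl | rfl | rfl | rfl | rfl
  exacts [loop_one LR.loop0_ok (by decide +kernel) (by decide +kernel),
    loop_one LR.loop1_ok (by decide +kernel) (by decide +kernel),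
    loop_one LR.loop2_ok (by decide +kernel) (by decide +kernel),
    loop_one LR.loop3_ok (by decide +kernel) (by decide +kernel),
    loop_one LR.loop4_ok (by decide +kernel) (by decide +kernel),
    loop_one LR.loop5_ok (by decide +kernel) (by decide +kernel),
    loop_one LR.loop6_ok (by decide +kernel) (by decide +kernel),
    loop_one LR.loop7_ok (by decide +kernel) (by decide +kernel),
    loop_one LR.loop8_ok (by decide +kernel) (by decide +kernel),
    loop_one LR.loop9_ok (by decide +kernel) (by decide +kernel),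
    loop_one LR.loop10_ok (by decide +kernel) (by decide +kernel),
    loop_one LR.loop11_ok (by decide +kernel) (by decide +kernel),
    loop_one LR.loop12_ok (by decide +kernel) (by decide +kernel),
    loop_one LR.loop13_ok (by decide +kernel) (by decide +kernel)]

/-- The letters `a, a⁻¹, v, v⁻¹, e, e⁻¹`. -/
def gs (i : ℕ) : GM := lv (fun j => prodw gm (exW.getD (2 * j) [])) i

theorem gs_iv (x : ℕ) : gs (iv x) = (gs x)⁻¹ := lv_iv _ _

theorem gs_eq {x : ℕ} (hx : x < 6) : gs x = prodw gm (exW.getD x []) := by
  have e : ∀ a b : List ℕ, b = a.reverse.map iv → (prodw gm a)⁻¹ = prodw gm b :=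
    fun a b h => by rw [h, prodw_inv gm_iv]
  interval_cases x
  · rfl
  · exact e _ _ (by decide)
  · rfl
  · exact e _ _ (by decide)
  · rfl
  · exact e _ _ (by decide)

theorem gs_rel {S : List (List ℕ)}
    (hc : S.all (fun w => (w.all fun x => Nat.blt x 6) &&
      decide (w.flatMap (fun c => exW.getD c []) ∈ closedW)) = true) :
    ∀ w ∈ S, prodw gs w = 1 := by
  intro w hw
  have h := List.all_eq_true.1 hc w hw
  simp only [Bool.and_eq_true, List.all_eq_true, Nat.blt_eq, decide_eq_true_eq] at h
  rw [prodw_subst (g := gm) (fun c => exW.getD c []) w fun x hx => gs_eq (h.1 x hx)]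
  exact closed_one h.2

/-- The product `a v`. -/
def gav : GM := prodw gs [0, 2]

theorem gav_pow : gav ^ 5 = 1 := by
  have h := gs_rel (S := [[0, 2, 0, 2, 0, 2, 0, 2, 0, 2]]) (by decide +kernel) _ List.mem_cons_self
  rw [← h, gav]
  simp [prodw, pow_succ, mul_assoc]

theorem finite_zpowers_gav : Finite (Subgroup.zpowers gav) ∧
    Nat.card (Subgroup.zpowers gav) ≤ 5 := by
  have h : IsOfFinOrder gav := isOfFinOrder_iff_pow_eq_one.2 ⟨5, by norm_num, gav_pow⟩
  refine ⟨h.finite_zpowers.to_subtype, ?_⟩
  rw [Nat.card_zpowers]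
  exact Nat.le_of_dvd (by norm_num) (orderOf_dvd_of_pow_eq_one gav_pow)

/-- The subgroup `⟨a, v⟩`. -/
def HB : Subgroup GM := Subgroup.closure (gs '' {x | x < 4})

theorem lb_rels : ∀ r, r < LB.log.nR → prodw gs (LB.log.words.getD r []) = 1 :=
  rels_one (rots relsB) (rots_one gs_iv (gs_rel (by decide +kernel))) (by decide +kernel)
    (by decide +kernel)

theorem lb_subs : ∀ r, r < LB.log.words.length →
    prodw gs (LB.log.words.getD r []) ∈ Subgroup.zpowers gav :=
  subs_mem _ lb_rels (by
    intro w hw
    rw [show LB.log.words.drop LB.log.nR = [[0, 2]] by decide +kernel] at hw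
    simp only [List.mem_cons, List.not_mem_nil, or_false] at hw
    subst hw
    exact Subgroup.mem_zpowers gav)

theorem iv_lt4 : ∀ x, x < 4 → iv x < 4 := by decide +kernel

theorem iv_lt6 : ∀ x, x < 6 → iv x < 6 := by decide +kernel

theorem HB_bound : Finite HB ∧ Nat.card HB ≤ 17280 := by
  haveI := finite_zpowers_gav.1
  have h := finite_and_card_le gs_iv LB.log (Subgroup.zpowers gav) lb_rels lb_subs
    (letters_lt LB.letters_ok) LB.factsOK LB.closed (d := 12)
    (show LB.log.k ≤ 14 by decide +kernel) iv_lt4 (show LB.closed.n ≤ 2 ^ 12 by decide +kernel)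
    (by decide +kernel) (by decide +kernel) LB.edgesOK
  rw [show LB.log.k = 4 by decide +kernel] at h
  refine ⟨h.1, h.2.trans ?_⟩
  rw [show LB.closed.n = 3456 by decide +kernel]
  exact (Nat.mul_le_mul_left _ finite_zpowers_gav.2).trans (by norm_num)

/-- The subgroup `⟨a, v, e⟩`. -/
def HA : Subgroup GM := Subgroup.closure (gs '' {x | x < 6})

theorem lm_rels : ∀ r, r < LM.log.nR → prodw gs (LM.log.words.getD r []) = 1 :=
  rels_one (rots relsA) (rots_one gs_iv (gs_rel (by decide +kernel))) (by decide +kernel)
    (by decide +kernel)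

theorem lm_subs : ∀ r, r < LM.log.words.length → prodw gs (LM.log.words.getD r []) ∈ HB :=
  subs_mem _ lm_rels (by
    intro w hw
    rw [show LM.log.words.drop LM.log.nR = [[0], [2]] by decide +kernel] at hw
    simp only [List.mem_cons, List.not_mem_nil, or_false] at hw
    rcases hw with rfl | rfl
    · exact Subgroup.subset_closure ⟨0, by show (0 : ℕ) < 4; omega, by simp [prodw]⟩
    · exact Subgroup.subset_closure ⟨2, by show (2 : ℕ) < 4; omega, by simp [prodw]⟩)

theorem HA_bound : Finite HA ∧ Nat.card HA ≤ 2661120 := by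
  haveI := HB_bound.1
  have h := finite_and_card_le gs_iv LM.log HB lm_rels lm_subs
    (letters_lt LM.letters_ok) LM.factsOK LM.closed (d := 8)
    (show LM.log.k ≤ 14 by decide +kernel) iv_lt6 (show LM.closed.n ≤ 2 ^ 8 by decide +kernel)
    (by decide +kernel) (by decide +kernel) LM.edgesOK
  rw [show LM.log.k = 6 by decide +kernel] at h
  refine ⟨h.1, h.2.trans ?_⟩
  rw [show LM.closed.n = 154 by decide +kernel]
  exact (Nat.mul_le_mul_left _ HB_bound.2).trans (by norm_num)

theorem lg_rels : ∀ r, r < LG.log.nR → prodw gm (LG.log.words.getD r []) = 1 :=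
  rels_one (rots relsM) (rots_one gm_iv fun _ => gm_rel) (by decide +kernel) (by decide +kernel)

theorem lg_subs : ∀ r, r < LG.log.words.length → prodw gm (LG.log.words.getD r []) ∈ HA :=
  subs_mem _ lg_rels (by
    intro w hw
    rw [show LG.log.words.drop LG.log.nR = [exW.getD 0 [], exW.getD 2 [], exW.getD 4 []] by
      decide +kernel] at hw
    simp only [List.mem_cons, List.not_mem_nil, or_false] at hw
    rcases hw with rfl | rfl | rfl
    · exact Subgroup.subset_closure ⟨0, by show (0 : ℕ) < 6; omega, gs_eq (by norm_num)⟩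
    · exact Subgroup.subset_closure ⟨2, by show (2 : ℕ) < 6; omega, gs_eq (by norm_num)⟩
    · exact Subgroup.subset_closure ⟨4, by show (4 : ℕ) < 6; omega, gs_eq (by norm_num)⟩)

theorem GM_bound : Finite GM ∧ Nat.card GM ≤ 734469120 := by
  haveI := HA_bound.1
  have h := finite_and_card_le gm_iv LG.log HA lg_rels lg_subs
    (letters_lt LG.letters_ok) LG.factsOK LG.closed (d := 9)
    (show LG.log.k ≤ 14 by decide +kernel) iv_lt4 (show LG.closed.n ≤ 2 ^ 9 by decide +kernel)
    (by decide +kernel) (by decide +kernel) LG.edgesOK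
  rw [show LG.log.k = 4 by decide +kernel, closure_gm] at h
  haveI := h.1
  refine ⟨Finite.of_equiv _ Subgroup.topEquiv.toEquiv, ?_⟩
  rw [← Nat.card_congr (Subgroup.topEquiv (G := GM)).toEquiv]
  refine h.2.trans ?_
  rw [show LG.closed.n = 276 by decide +kernel]
  exact (Nat.mul_le_mul_left _ HA_bound.2).trans (by norm_num)

end

end CfsgLib.JankoFourM24
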