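import Cfsg.Agent.JankoFourM24.Words
import Cfsg.Agent.JankoFourM24.GenWords
import Cfsg.Agent.HNXYZ.Rels
import Cfsg.Agent.JankoFourIndex.Model
import Cfsg.Agent.Mathieu.M24Order

/-!
The group on two generators with the relators of the presentation of `M₂₄`, and its map onto `Cfsg.M24`.
-/

set_option autoImplicit false
set_option maxRecDepth 100000

namespace CfsgLib.JankoFourM24

open CfsgLib.CosetEnum CfsgLib.LyG2 CfsgLib.HNXYZ

noncomputable section

/-- The relators in the free group. -/
def relSetM : Set (FreeGroup (Fin 2)) :=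
  {r | ∃ w ∈ relsM, r = prodw (lv fun i => FreeGroup.of (Fin.ofNat 2 i)) w}

/-- The group on `x, y`. -/
abbrev GM : Type := PresentedGroup relSetM

/-- The letters `x, x⁻¹, y, y⁻¹` in it. -/
def gm (i : ℕ) : GM := lv (fun j => PresentedGroup.of (Fin.ofNat 2 j)) i

theorem gm_iv (x : ℕ) : gm (iv x) = (gm x)⁻¹ := lv_iv _ _

theorem gm_rel {w : List ℕ} (hw : w ∈ relsM) : prodw gm w = 1 := by
  have h : PresentedGroup.mk relSetM
      (prodw (lv fun i => FreeGroup.of (Fin.ofNat 2 i)) w) = 1 :=
    PresentedGroup.one_of_mem ⟨w, hw, rfl⟩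
  rw [HNCert.map_prodw] at h
  rw [← h]
  exact HNCert.prodw_congr fun i _ => (map_lv _ _ i).symm

theorem relsM_lt : ∀ w ∈ relsM, ∀ i ∈ w, i < 4 := by decide +kernel

/-- A pair satisfying the relators gives a homomorphism. -/
theorem exists_liftM {K : Type*} [Group K] (f : ℕ → K)
    (h : ∀ w ∈ relsM, prodw (lv f) w = 1) :
    ∃ χ : GM →* K, ∀ x, x < 4 → χ (gm x) = lv f x := by
  refine ⟨PresentedGroup.toGroup (f := fun i : Fin 2 => f i.val) ?_, fun x hx => ?_⟩
  · rintro r ⟨w, hw, rfl⟩
    rw [HNCert.map_prodw, ← h w hw]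
    refine HNCert.prodw_congr fun i hi => ?_
    rw [map_lv]
    simp only [FreeGroup.lift_apply_of]
    have := relsM_lt w hw i hi
    interval_cases i <;> simp [lv_eq]
  · rw [gm, map_lv]
    simp only [PresentedGroup.toGroup.of]
    interval_cases x <;> simp [lv_eq]

theorem closure_gm : Subgroup.closure (gm '' {x | x < 4}) = ⊤ := by
  rw [eq_top_iff, ← PresentedGroup.closure_range_of]
  refine Subgroup.closure_mono ?_
  rintro _ ⟨a, rfl⟩
  refine ⟨2 * a.val, show 2 * a.val < 4 by omega, ?_⟩
  fin_cases a <;> rfl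

/-- The images of a point under a letter. -/
def imgP (x i : ℕ) : ℕ :=
  JankoFourIndex.pg (if x < 2 then JankoFourIndex.permX
    else if x = 2 then JankoFourIndex.permY else JankoFourIndex.permYI) i

theorem imgP_ok : ∀ x < 4, ∀ i < 24, imgP x i < 24 ∧ imgP (iv x) (imgP x i) = i := by
  decide +kernel

/-- The image of a point under a word, read from the left. -/
def walkP (w : List ℕ) (i : ℕ) : ℕ := w.foldl (fun i x => imgP x i) i

/-- The permutation carrying the image under a generator back. -/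
def permGenM (j : ℕ) : Equiv.Perm (Fin 24) :=
  if hj : j < 2 then
    { toFun := fun i => ⟨imgP (2 * j + 1) i.val, (imgP_ok _ (by omega) _ i.2).1⟩
      invFun := fun i => ⟨imgP (2 * j) i.val, (imgP_ok _ (by omega) _ i.2).1⟩
      left_inv := fun i => Fin.ext (by
        have := (imgP_ok (2 * j + 1) (by omega) _ i.2).2
        rw [iv_odd] at this
        exact this)
      right_inv := fun i => Fin.ext (by
        have := (imgP_ok (2 * j) (by omega) _ i.2).2
        rw [iv_even] at this
        exact this) }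
  else 1

theorem permGenM_inv {x : ℕ} (hx : x < 4) (i : Fin 24) :
    ((lv permGenM x)⁻¹ i).val = imgP x i.val := by
  rcases Nat.even_or_odd' x with ⟨j, rfl | rfl⟩
  · rw [lv_eq, if_pos (by omega), show 2 * j / 2 = j by omega, permGenM, dif_pos (by omega)]
    rfl
  · rw [lv_eq, if_neg (by omega), show (2 * j + 1) / 2 = j by omega, inv_inv, permGenM,
      dif_pos (by omega)]
    rfl

theorem permGenM_walk : ∀ w : List ℕ, (∀ x ∈ w, x < 4) → ∀ i : Fin 24,
    ((prodw (lv permGenM) w)⁻¹ i).val = walkP w i.val := by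
  intro w
  induction w with
  | nil => intro _ i; rfl
  | cons x w ih =>
    intro hw i
    rw [prodw_cons, mul_inv_rev, Equiv.Perm.mul_apply,
      ih (fun y hy => hw y (List.mem_cons_of_mem x hy)), permGenM_inv (hw x List.mem_cons_self)]
    rfl

theorem permGenM_rel : ∀ w ∈ relsM, prodw (lv permGenM) w = 1 := by
  intro w hw
  rw [← inv_eq_one]
  refine Equiv.ext fun i => Fin.ext ?_
  rw [permGenM_walk w (relsM_lt w hw)]
  have h : ∀ w ∈ relsM, ∀ i < 24, walkP w i = i := by decide +kernel
  exact h w hw _ i.2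

theorem exists_piM : ∃ χ : GM →* Equiv.Perm (Fin 24), ∀ x, x < 4 → χ (gm x) = lv permGenM x :=
  exists_liftM permGenM permGenM_rel

/-- The action on the twenty-four points. -/
def piM : GM →* Equiv.Perm (Fin 24) := exists_piM.choose

theorem piM_gm {x : ℕ} (hx : x < 4) : piM (gm x) = lv permGenM x := exists_piM.choose_spec x hx

theorem piM_prodw {w : List ℕ} (hw : ∀ x ∈ w, x < 4) (i : Fin 24) :
    ((piM (prodw gm w))⁻¹ i).val = walkP w i.val := by
  rw [HNCert.map_prodw, HNCert.prodw_congr fun x hx => piM_gm (hw x hx), permGenM_walk w hw]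

theorem piM_eq_one {w : List ℕ} (hw : ∀ x ∈ w, x < 4)
    (h : ∀ i < 24, walkP w i = i) : piM (prodw gm w) = 1 := by
  rw [← inv_eq_one]
  exact Equiv.ext fun i => Fin.ext ((piM_prodw hw i).trans (h _ i.2))

/-- The action on the points of the code. -/
def psiM : GM →* Equiv.Perm Cfsg.GolayPt :=
  (Mathieu.enc.symm.permCongrHom : Equiv.Perm (Fin 24) ≃* Equiv.Perm Cfsg.GolayPt).toMonoidHom.comp
    piM

theorem psiM_inv_apply (u : GM) (p : Cfsg.GolayPt) :
    Mathieu.enc ((psiM u)⁻¹ p) = (piM u)⁻¹ (Mathieu.enc p) := by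
  rw [← map_inv, ← map_inv]
  simp [psiM, Equiv.permCongrHom, Equiv.permCongr_apply]

theorem psiM_range_le : psiM.range ≤ Cfsg.M24 := by
  rw [MonoidHom.range_eq_map, ← closure_gm, MonoidHom.map_closure, Subgroup.closure_le]
  rintro _ ⟨_, ⟨x, hx, rfl⟩, rfl⟩
  have h : ∀ x, x < 4 → psiM (gm x)⁻¹ ∈ Cfsg.M24 := by
    intro x hx
    refine Mathieu.mem_M24_of_table
      (t := (List.range 24).foldr (fun i acc => acc * 256 + imgP x i) 0) ?_ ?_
    · intro p
      have ht : ∀ x < 4, ∀ i < 24,
          Mathieu.app ((List.range 24).foldr (fun i acc => acc * 256 + imgP x i) 0) i = imgP x i := by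
        decide +kernel
      rw [ht x hx _ (Mathieu.enc p).2, map_inv, psiM_inv_apply, piM_gm hx, permGenM_inv hx]
    · have hc : ∀ x < 4, Mathieu.preservesCode
          ((List.range 24).foldr (fun i acc => acc * 256 + imgP x i) 0) = true := by decide +kernel
      exact hc x hx
  have := inv_mem (h x hx)
  rwa [← map_inv, inv_inv] at this

theorem mem_range_of_word {σ : Equiv.Perm Cfsg.GolayPt} {f : Cfsg.GolayPt → Cfsg.GolayPt}
    (hf : ∀ p, σ p = f p) {w : List ℕ} (hw : ∀ x ∈ w, x < 4)
    (h : ∀ p, walkP w (Mathieu.idx p) = Mathieu.idx (f p)) : σ ∈ psiM.range := by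
  refine ⟨(prodw gm w)⁻¹, ?_⟩
  refine Equiv.ext fun p => Mathieu.enc.injective (Fin.ext ?_)
  rw [map_inv, psiM_inv_apply, piM_prodw hw, hf]
  exact h p

theorem psiM_range : psiM.range = Cfsg.M24 := by
  refine le_antisymm psiM_range_le ?_
  rw [← Mathieu.m24Gen_eq, Mathieu.m24Gen, Subgroup.closure_le]
  rintro g (rfl | rfl | rfl)
  · exact mem_range_of_word (f := Mathieu.shiftOne) (fun _ => rfl) (w := wShift)
      (by decide +kernel) (by decide +kernel)
  · exact mem_range_of_word (f := Cfsg.projInvFun) (fun _ => rfl) (w := wInv)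
      (by decide +kernel) (by decide +kernel)
  · exact mem_range_of_word (f := Cfsg.cubeTwistFun)
      (fun p => Equiv.ofBijective_apply (f := Cfsg.cubeTwistFun) _ p) (w := wTwist)
      (by decide +kernel) (by decide +kernel)

end

end CfsgLib.JankoFourM24
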