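import Cfsg.Agent.JankoFourM24.Bound
import Cfsg.Agent.Mathieu.SmallSimple
import Cfsg.Agent.S2038

/-!
The presented group is `M₂₄`: it is perfect, so a kernel of order at most three is central, and the
multiplier of `M₂₄` is trivial.
-/

set_option autoImplicit false
set_option maxRecDepth 100000

namespace CfsgLib.JankoFourM24

open CfsgLib.CosetEnum CfsgLib.LyG2 CfsgLib.HNXYZ

noncomputable section

theorem abelian_trivial {A : Type*} [CommGroup A] (f : GM →* A) : f = 1 := by
  have hx := gm_rel (w := [0, 0]) (by decide +kernel)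
  have hy := gm_rel (w := [2, 2, 2]) (by decide +kernel)
  have hxy := gxy_pow
  simp only [gxy, prodw, List.map_cons, List.map_nil, List.prod_cons, List.prod_nil, mul_one] at hx hy hxy
  have hx' := congrArg f hx
  have hy' := congrArg f hy
  have hxy' := congrArg f hxy
  simp only [map_mul, map_pow, map_one] at hx' hy' hxy'
  set X := f (gm 0) with hX
  set Y := f (gm 2) with hY
  have hX2 : X ^ 2 = 1 := by rw [pow_two]; exact hx'
  have hY3 : Y ^ 3 = 1 := by rw [pow_succ, pow_two, mul_assoc]; exact hy'
  have hX1 : X = 1 := by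
    have h : (X * Y) ^ 6 = 1 := by
      rw [mul_pow, show X ^ 6 = (X ^ 2) ^ 3 from pow_mul X 2 3, hX2, one_pow,
        show Y ^ 6 = (Y ^ 3) ^ 2 from pow_mul Y 3 2, hY3, one_pow, one_mul]
    have h1 : X * Y = 1 := by
      have := pow_gcd_eq_one.2 ⟨h, hxy'⟩
      norm_num at this
      exact this
    have hY2 : Y ^ 2 = 1 := by rw [← inv_eq_of_mul_eq_one_right h1, inv_pow, hX2, inv_one]
    have hY1 : Y = 1 := by
      have := pow_gcd_eq_one.2 ⟨hY2, hY3⟩
      norm_num at this
      exact this
    rwa [hY1, mul_one] at h1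
  have hY1 : Y = 1 := by
    have : (X * Y) ^ 23 = 1 := hxy'
    rw [hX1, one_mul] at this
    have := pow_gcd_eq_one.2 ⟨this, hY3⟩
    norm_num at this
    exact this
  refine MonoidHom.eq_of_eqOn_dense closure_gm ?_
  rintro _ ⟨x, hx4, rfl⟩
  have hx4' : x < 4 := hx4
  interval_cases x
  · exact hX1
  · show f (gm (iv 0)) = 1
    rw [gm_iv, map_inv, ← hX, hX1, inv_one]
  · exact hY1
  · show f (gm (iv 2)) = 1
    rw [gm_iv, map_inv, ← hY, hY1, inv_one]

theorem commutator_GM : commutator GM = ⊤ := by
  have h := congrArg MonoidHom.ker (abelian_trivial (Abelianization.of : GM →* Abelianization GM))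
  rwa [MonoidHom.ker_one, Abelianization.ker_of] at h

/-- The action, onto `M₂₄`. -/
def sigmaM : GM →* Cfsg.M24 :=
  psiM.codRestrict Cfsg.M24 fun u => psiM_range_le ⟨u, rfl⟩

theorem sigmaM_surjective : Function.Surjective sigmaM := by
  rintro ⟨g, hg⟩
  rw [← psiM_range] at hg
  obtain ⟨u, hu⟩ := hg
  exact ⟨u, Subtype.ext hu⟩

theorem card_ker_le : Nat.card sigmaM.ker ≤ 3 := by
  haveI := GM_bound.1
  have h := Subgroup.index_mul_card sigmaM.ker
  rw [Subgroup.index_ker, MonoidHom.range_eq_top.2 sigmaM_surjective, Subgroup.card_top,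
    Mathieu.card_M24] at h
  have := GM_bound.2
  omega

theorem ker_central : sigmaM.ker ≤ Subgroup.center GM := by
  haveI := GM_bound.1
  haveI : IsCyclic sigmaM.ker := by
    have h := card_ker_le
    have h0 : 0 < Nat.card sigmaM.ker := Nat.card_pos
    rcases (show Nat.card sigmaM.ker = 1 ∨ Nat.card sigmaM.ker = 2 ∨ Nat.card sigmaM.ker = 3 by omega)
      with e | e | e
    · haveI := (Nat.card_eq_one_iff_unique.1 e).1
      exact isCyclic_of_subsingleton
    · haveI := Fact.mk Nat.prime_two
      exact isCyclic_of_prime_card e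
    · haveI := Fact.mk Nat.prime_three
      exact isCyclic_of_prime_card e
  let c : GM →* MulAut sigmaM.ker := MulAut.conjNormal
  letI : CommGroup (MulAut sigmaM.ker) :=
    { (inferInstance : Group (MulAut sigmaM.ker)) with
      mul_comm := fun a b => (IsCyclic.mulAutMulEquiv sigmaM.ker).injective
        (by rw [map_mul, map_mul, mul_comm]) }
  have hc : c = 1 := abelian_trivial c
  intro k hk
  rw [Subgroup.mem_center_iff]
  intro g
  have := congrArg (fun e : MulAut sigmaM.ker => ((e ⟨k, hk⟩ : sigmaM.ker) : GM))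
    (DFunLike.congr_fun hc g)
  simp [c] at this
  exact mul_inv_eq_iff_eq_mul.1 this

theorem sigmaM_injective : Function.Injective sigmaM := by
  haveI := GM_bound.1
  obtain ⟨π, hπ⟩ := Cfsg.Agent.S2038.result.2 GM sigmaM
    ⟨sigmaM_surjective, ker_central, by rw [commutator_GM]; exact le_top⟩
  rw [← MonoidHom.ker_eq_bot_iff, Subgroup.eq_bot_iff_forall]
  intro k hk
  obtain ⟨a, ha⟩ := hπ ⟨k, hk⟩
  rw [Subsingleton.elim a 1, map_one] at ha
  exact (congrArg Subtype.val ha).symm

/-- The isomorphism. -/
def isoM : GM ≃* Cfsg.M24 := MulEquiv.ofBijective sigmaM ⟨sigmaM_injective, sigmaM_surjective⟩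

theorem piM_injective : Function.Injective piM := fun u v h =>
  sigmaM_injective (Subtype.ext (by
    show psiM u = psiM v
    simp only [psiM, MonoidHom.comp_apply, h]))

end

end CfsgLib.JankoFourM24
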