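import Cfsg.Agent.JankoFourM24.Iso
import Cfsg.Agent.JankoFourIndex.Model
import Cfsg.Agent.JankoFourRep.Rep

/-!
The subgroup on `x, y` of the presented fourth Janko group is `M₂₄`.
-/

set_option autoImplicit false
set_option maxRecDepth 100000

namespace CfsgLib.JankoFourM24

open CfsgLib.CosetEnum CfsgLib.LyG2 CfsgLib.HNXYZ CfsgLib.JankoFour Cfsg.Spor

noncomputable section

theorem jVal_rel : ∀ w ∈ relsM, prodw (lv fun j => if j = 0 then xJ else yJ) w = 1 := by
  intro w hw
  simp only [relsM, List.mem_cons, List.not_mem_nil, or_false] at hw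
  have hx : xJ⁻¹ = xJ := inv_eq_of_mul_eq_one_right (by rw [← sq, xJ_sq])
  rcases hw with rfl | rfl | rfl | rfl | rfl | rfl | rfl
  · simpa [prodw, lv_eq, sq] using xJ_sq
  · simpa [prodw, lv_eq, pow_succ, mul_assoc] using yJ_cube
  · have h := rel_eq_one (w := (J4.x * J4.y) ^ 23) (by simp [J4.extra])
    simp only [map_mul, map_pow] at h
    change (xJ * yJ) ^ 23 = 1 at h
    simpa [prodw, lv_eq, pow_succ, mul_assoc] using h
  · have h := rel_eq_one (w := (J4.x⁻¹ * J4.y⁻¹ * J4.x * J4.y) ^ 12) (by simp [J4.extra])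
    simp only [map_mul, map_inv, map_pow] at h
    change (xJ⁻¹ * yJ⁻¹ * xJ * yJ) ^ 12 = 1 at h
    rw [hx] at h
    simpa [prodw, lv_eq, pow_succ, mul_assoc] using h
  · have h := rel_eq_one (w := (J4.x⁻¹ * (J4.y * J4.x * J4.y)⁻¹ * J4.x * (J4.y * J4.x * J4.y)) ^ 5)
      (by simp [J4.extra])
    simp only [map_mul, map_inv, map_pow] at h
    change (xJ⁻¹ * (yJ * xJ * yJ)⁻¹ * xJ * (yJ * xJ * yJ)) ^ 5 = 1 at h
    rw [mul_inv_rev, mul_inv_rev, hx] at h
    simpa [prodw, lv_eq, pow_succ, mul_assoc] using h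
  · have h := rel_eq_one (w := (J4.x * J4.y * ((J4.x * J4.y * J4.x * (J4.y⁻¹)) ^ 3)) ^ 4)
      (by simp [J4.extra])
    simp only [map_mul, map_inv, map_pow] at h
    change (xJ * yJ * ((xJ * yJ * xJ * yJ⁻¹) ^ 3)) ^ 4 = 1 at h
    simpa [prodw, lv_eq, pow_succ, mul_assoc] using h
  · have h := rel_eq_one (w := ((J4.x * J4.y * J4.x * J4.y * J4.x * (J4.y⁻¹)) ^ 3) *
      ((J4.x * J4.y * J4.x * (J4.y⁻¹) * J4.x * (J4.y⁻¹)) ^ 3)) (by simp [J4.extra])
    simp only [map_mul, map_inv, map_pow] at h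
    change (xJ * yJ * xJ * yJ * xJ * yJ⁻¹) ^ 3 * (xJ * yJ * xJ * yJ⁻¹ * xJ * yJ⁻¹) ^ 3 = 1 at h
    simpa [prodw, lv_eq, pow_succ, mul_assoc] using h

theorem exists_theta : ∃ θ : GM →* Cfsg.Spor.J4, ∀ x, x < 4 →
    θ (gm x) = lv (fun j => if j = 0 then xJ else yJ) x :=
  exists_liftM (fun j => if j = 0 then xJ else yJ) jVal_rel

/-- The map into the presented Janko group. -/
def theta : GM →* Cfsg.Spor.J4 := exists_theta.choose

theorem theta_gm {x : ℕ} (hx : x < 4) :
    theta (gm x) = lv (fun j => if j = 0 then xJ else yJ) x := exists_theta.choose_spec x hx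

theorem theta_x : theta (gm 0) = xJ := by rw [theta_gm (by norm_num)]; simp [lv_eq]

theorem theta_y : theta (gm 2) = yJ := by rw [theta_gm (by norm_num)]; simp [lv_eq]

theorem theta_range : theta.range = mSub := by
  rw [MonoidHom.range_eq_map, ← closure_gm, MonoidHom.map_closure]
  refine le_antisymm ?_ ?_
  · rw [Subgroup.closure_le]
    rintro _ ⟨_, ⟨x, hx, rfl⟩, rfl⟩
    have hx4 : x < 4 := hx
    rw [SetLike.mem_coe]
    interval_cases x
    · rw [theta_x]; exact Subgroup.subset_closure (Or.inl rfl)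
    · rw [show gm 1 = (gm 0)⁻¹ from gm_iv 0, map_inv, theta_x]
      exact inv_mem (Subgroup.subset_closure (Or.inl rfl))
    · rw [theta_y]; exact Subgroup.subset_closure (Or.inr rfl)
    · rw [show gm 3 = (gm 2)⁻¹ from gm_iv 2, map_inv, theta_y]
      exact inv_mem (Subgroup.subset_closure (Or.inr rfl))
  · rw [Subgroup.closure_le]
    rintro _ (rfl | rfl)
    · exact Subgroup.subset_closure ⟨_, ⟨0, by show (0 : ℕ) < 4; norm_num, rfl⟩, theta_x⟩
    · exact Subgroup.subset_closure ⟨_, ⟨2, by show (2 : ℕ) < 4; norm_num, rfl⟩, theta_y⟩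

theorem xJ_ne_one : xJ ≠ 1 := by
  intro e
  have h := congrArg CfsgLib.JankoFourRep.rep e
  rw [show xJ = PresentedGroup.of J4.Gen.x from rfl, CfsgLib.JankoFourRep.rep_of, map_one] at h
  have h2 : CfsgLib.JankoFourRep.toMat CfsgLib.JankoFourRep.rowsX = 1 := congrArg Units.val h
  have h3 := congrFun (CfsgLib.JankoFourRep.vecOf_rowMul
    (L := CfsgLib.JankoFourRep.rowsX) (by decide +kernel) 2) ⟨4, by norm_num⟩
  rw [h2, Matrix.vecMul_one] at h3
  have hf : (CfsgLib.JankoFourRep.rowMul CfsgLib.JankoFourRep.rowsX 2).testBit 4 = true := by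
    decide +kernel
  simp [CfsgLib.JankoFourRep.vecOf, CfsgLib.JankoFourRep.bit, hf, show Nat.testBit 2 4 = false from rfl] at h3

theorem simple_GM : IsSimpleGroup GM := by
  haveI := CfsgLib.Mathieu.simple_M24
  haveI : Nontrivial GM := isoM.toEquiv.nontrivial
  exact IsSimpleGroup.isSimpleGroup_of_surjective isoM.symm.toMonoidHom isoM.symm.surjective

theorem theta_injective : Function.Injective theta := by
  haveI := simple_GM
  rw [← MonoidHom.ker_eq_bot_iff]
  refine (theta.normal_ker.eq_bot_or_eq_top).resolve_right fun h => xJ_ne_one ?_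
  rw [← theta_x]
  exact MonoidHom.mem_ker.1 (h ▸ Subgroup.mem_top (gm 0))

/-- The subgroup on `x, y` as the presented group. -/
def thetaEquiv : GM ≃* mSub :=
  (MonoidHom.ofInjective theta_injective).trans (MulEquiv.subgroupCongr theta_range)

/-- The subgroup on `x, y` is `M₂₄`. -/
def isoMSub : mSub ≃* Cfsg.M24 := thetaEquiv.symm.trans isoM

theorem iso_M : Nonempty (mSub ≃* Cfsg.M24) := ⟨isoMSub⟩

theorem thetaEquiv_symm_x : thetaEquiv.symm JankoFourIndex.xM = gm 0 := by
  rw [MulEquiv.symm_apply_eq]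
  exact Subtype.ext theta_x.symm

theorem thetaEquiv_symm_y : thetaEquiv.symm JankoFourIndex.yM = gm 2 := by
  rw [MulEquiv.symm_apply_eq]
  exact Subtype.ext theta_y.symm

/-- The action of the subgroup on `x, y` on twenty-four points. -/
def model : JankoFourIndex.Model where
  π := piM.comp thetaEquiv.symm.toMonoidHom
  inj := piM_injective.comp thetaEquiv.symm.injective
  px i := by
    show ((piM (thetaEquiv.symm JankoFourIndex.xM))⁻¹ i).val = _
    rw [thetaEquiv_symm_x, piM_gm (by norm_num), permGenM_inv (by norm_num)]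
    rfl
  py i := by
    show ((piM (thetaEquiv.symm JankoFourIndex.yM))⁻¹ i).val = _
    rw [thetaEquiv_symm_y, piM_gm (by norm_num), permGenM_inv (by norm_num)]
    rfl
  card_le := by
    rw [Nat.card_congr isoMSub.toEquiv, Mathieu.card_M24]

end

end CfsgLib.JankoFourM24
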