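import Mathlib.Init

/-! The relators of the presentation of `M₂₄` and the words of three elements. -/

set_option autoImplicit false

namespace CfsgLib.JankoFourM24

/-- The relators. -/
def relsM : List (List Nat) := [
  [0, 0],
  [2, 2, 2],
  [0, 2, 0, 2, 0, 2, 0, 2, 0, 2, 0, 2, 0, 2, 0, 2, 0, 2, 0, 2, 0, 2, 0, 2, 0, 2, 0, 2, 0, 2, 0, 2, 0, 2, 0, 2, 0, 2, 0, 2, 0, 2, 0, 2, 0, 2],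
  [0, 3, 0, 2, 0, 3, 0, 2, 0, 3, 0, 2, 0, 3, 0, 2, 0, 3, 0, 2, 0, 3, 0, 2, 0, 3, 0, 2, 0, 3, 0, 2, 0, 3, 0, 2, 0, 3, 0, 2, 0, 3, 0, 2, 0, 3, 0, 2],
  [0, 3, 0, 3, 0, 2, 0, 2, 0, 3, 0, 3, 0, 2, 0, 2, 0, 3, 0, 3, 0, 2, 0, 2, 0, 3, 0, 3, 0, 2, 0, 2, 0, 3, 0, 3, 0, 2, 0, 2],
  [0, 2, 0, 2, 0, 3, 0, 2, 0, 3, 0, 2, 0, 3, 0, 2, 0, 2, 0, 3, 0, 2, 0, 3, 0, 2, 0, 3, 0, 2, 0, 2, 0, 3, 0, 2, 0, 3, 0, 2, 0, 3, 0, 2, 0, 2, 0, 3, 0, 2, 0, 3, 0, 2, 0, 3],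
  [0, 2, 0, 2, 0, 3, 0, 2, 0, 2, 0, 3, 0, 2, 0, 2, 0, 3, 0, 2, 0, 3, 0, 3, 0, 2, 0, 3, 0, 3, 0, 2, 0, 3, 0, 3]]

/-- The words of the letters `a, a⁻¹, v, v⁻¹, e, e⁻¹`. -/
def exW : List (List Nat) := [[2], [3], [0, 3, 0, 3, 0, 2, 0], [1, 3, 1, 2, 1, 2, 1], [0, 2, 0, 2, 0, 3, 0, 3, 0], [1, 2, 1, 2, 1, 3, 1, 3, 1]]

/-- The closed words. -/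
def closedW : List (List Nat) := [
  [3, 1, 3, 1, 2, 1, 2, 1, 3, 1, 3, 1, 2, 1, 2, 1, 3, 1, 3, 1, 2, 1, 2, 1, 3, 1, 3, 1, 2, 1, 2, 1, 3, 1, 3, 1, 2, 1, 2, 1],
  [3, 1, 3, 1, 2, 1, 2, 1, 3, 1, 3, 1, 2, 1, 2, 1, 3, 1, 3, 1, 2, 1, 2, 1, 3, 0, 3, 0, 3, 0, 2, 0, 3, 1, 3, 1, 2, 1, 2, 1, 3, 1, 3, 1, 2, 1, 2, 1, 3, 1, 3, 1, 2, 1, 2, 1, 3, 0, 3, 0, 3, 0, 2, 0, 3, 1, 3, 1, 2, 1, 2, 1, 3, 1, 3, 1, 2, 1, 2, 1, 3, 1, 3, 1, 2, 1, 2, 1, 3, 0, 3, 0, 3, 0, 2, 0],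
  [3, 1, 3, 1, 2, 1, 2, 1, 3, 1, 3, 1, 2, 1, 2, 1, 3, 1, 3, 1, 2, 1, 2, 1, 2, 1, 3, 1, 2, 1, 2, 1, 3, 1, 3, 1, 2, 1, 2, 1, 3, 1, 3, 1, 2, 1, 2, 1, 3, 1, 3, 1, 2, 1, 2, 1, 2, 1, 3, 1, 2, 1, 2, 1, 3, 1, 3, 1, 2, 1, 2, 1, 3, 1, 3, 1, 2, 1, 2, 1, 3, 1, 3, 1, 2, 1, 2, 1, 2, 1, 3, 1, 2, 1, 2, 1],
  [3, 1, 3, 1, 2, 1, 2, 1, 3, 0, 2, 0, 2, 0, 3, 0, 3, 0, 1, 3, 1, 2, 1, 2, 1, 0, 2, 0, 2, 0, 3, 0, 3, 0, 2, 0, 3, 0, 3, 0, 2, 0],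
  [3, 1, 3, 1, 2, 1, 2, 1, 2, 0, 3, 0, 3, 0, 2, 0, 3, 0, 3, 0, 3, 0, 2, 0, 0, 3, 0, 3, 0, 2, 0, 3, 0, 3, 0, 3, 0, 2, 0, 3, 1, 3, 1, 2, 1, 2, 1, 2, 0, 3, 0, 3, 0, 2, 0, 3, 0, 3, 0, 3, 0, 2, 0, 0, 3, 0, 3, 0, 2, 0, 3, 0, 3, 0, 3, 0, 2, 0],
  [3, 0, 3, 0, 3, 0, 2, 0, 2, 0, 3, 0, 3, 0, 2, 0, 2, 0, 3, 0, 3, 0, 2, 0, 2, 0, 3, 0, 3, 0, 2, 0, 3, 0, 3, 0, 3, 0, 2, 0, 2, 0, 3, 0, 3, 0, 2, 0, 2, 0, 3, 0, 3, 0, 2, 0, 2, 0, 3, 0, 3, 0, 2, 0, 3, 0, 3, 0, 3, 0, 2, 0, 2, 0, 3, 0, 3, 0, 2, 0, 2, 0, 3, 0, 3, 0, 2, 0, 2, 0, 3, 0, 3, 0, 2, 0],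
  [1, 3, 1, 2, 1, 2, 1, 1, 3, 1, 2, 1, 2, 1, 2, 1, 3, 1, 2, 1, 2, 1, 1, 3, 1, 2, 1, 2, 1, 2, 1, 3, 1, 2, 1, 2, 1, 1, 3, 1, 2, 1, 2, 1, 2, 1, 3, 1, 2, 1, 2, 1, 1, 3, 1, 2, 1, 2, 1, 2, 1, 3, 1, 2, 1, 2, 1, 1, 3, 1, 2, 1, 2, 1, 2],
  [1, 3, 1, 2, 1, 2, 1, 1, 3, 1, 2, 1, 2, 1, 2, 0, 3, 0, 3, 0, 2, 0, 2, 1, 3, 1, 2, 1, 2, 1, 1, 3, 1, 2, 1, 2, 1, 2, 0, 3, 0, 3, 0, 2, 0, 2, 1, 3, 1, 2, 1, 2, 1, 1, 3, 1, 2, 1, 2, 1, 2, 0, 3, 0, 3, 0, 2, 0, 2, 1, 3, 1, 2, 1, 2, 1, 1, 3, 1, 2, 1, 2, 1, 2, 0, 3, 0, 3, 0, 2, 0, 2, 1, 3, 1, 2, 1, 2, 1, 1, 3, 1, 2, 1, 2, 1, 2, 0, 3, 0, 3, 0, 2, 0, 2],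
  [1, 3, 1, 2, 1, 2, 1, 2, 0, 3, 0, 3, 0, 2, 0, 2, 1, 3, 1, 2, 1, 2, 1, 2, 0, 3, 0, 3, 0, 2, 0, 0, 3, 0, 3, 0, 2, 0, 0, 3, 0, 3, 0, 2, 0, 2, 0, 3, 0, 3, 0, 2, 0, 2, 1, 3, 1, 2, 1, 2, 1, 2, 0, 3, 0, 3, 0, 2, 0, 2, 1, 3, 1, 2, 1, 2, 1, 2, 0, 3, 0, 3, 0, 2, 0, 0, 3, 0, 3, 0, 2, 0, 0, 3, 0, 3, 0, 2, 0, 2, 0, 3, 0, 3, 0, 2, 0, 2],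
  [1, 3, 1, 2, 1, 2, 1, 0, 2, 0, 2, 0, 3, 0, 3, 0, 2, 1, 3, 1, 2, 1, 2, 1, 0, 2, 0, 2, 0, 3, 0, 3, 0, 2, 1, 3, 1, 2, 1, 2, 1, 0, 2, 0, 2, 0, 3, 0, 3, 0, 2, 1, 3, 1, 2, 1, 2, 1, 0, 2, 0, 2, 0, 3, 0, 3, 0, 2],
  [2, 2, 2],
  [2, 0, 3, 0, 3, 0, 2, 0, 2, 0, 3, 0, 3, 0, 2, 0, 2, 0, 3, 0, 3, 0, 2, 0, 2, 0, 3, 0, 3, 0, 2, 0, 2, 0, 3, 0, 3, 0, 2, 0],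
  [0, 3, 0, 3, 0, 2, 0, 0, 3, 0, 3, 0, 2, 0, 0, 3, 0, 3, 0, 2, 0],
  [0, 2, 0, 2, 0, 3, 0, 3, 0, 0, 2, 0, 2, 0, 3, 0, 3, 0]]

end CfsgLib.JankoFourM24
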